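import Mathlib

/-!
# Affine maps recognised from triples

`midpoint_affine`: over `ZMod p`, `p` odd, a permutation agreeing on `{x, y, (x+y)/2}` with an
affine map for each `x, y` is affine.  `exists_equiv_of_li`: two finite linearly independent
families are conjugate under a linear automorphism.
-/

set_option autoImplicit false

namespace Cfsg.Agent.Lib.Affine

open Module

/-- Linearly independent families with the same index type are conjugate under `GL`. -/
theorem exists_equiv_of_li {K V ι : Type*} [Field K] [AddCommGroup V] [Module K V]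
    [FiniteDimensional K V] [Fintype ι] (v w : ι → V) (hv : LinearIndependent K v)
    (hw : LinearIndependent K w) : ∃ A : V ≃ₗ[K] V, ∀ i, A (v i) = w i := by
  classical
  obtain ⟨C₁, hC₁⟩ := Submodule.exists_isCompl (Submodule.span K (Set.range v))
  obtain ⟨C₂, hC₂⟩ := Submodule.exists_isCompl (Submodule.span K (Set.range w))
  have hU : finrank K (Submodule.span K (Set.range v)) =
      finrank K (Submodule.span K (Set.range w)) := by
    rw [finrank_span_eq_card hv, finrank_span_eq_card hw]
  have hC : finrank K C₁ = finrank K C₂ := by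
    have h1 := Submodule.finrank_add_eq_of_isCompl hC₁
    have h2 := Submodule.finrank_add_eq_of_isCompl hC₂
    omega
  let eC : C₁ ≃ₗ[K] C₂ := LinearEquiv.ofFinrankEq _ _ hC
  let eU : Submodule.span K (Set.range v) ≃ₗ[K] Submodule.span K (Set.range w) :=
    hv.linearCombinationEquiv.symm.trans hw.linearCombinationEquiv
  have heU : ∀ i, (eU ⟨v i, Submodule.subset_span ⟨i, rfl⟩⟩ : V) = w i := by
    intro i
    have h1 : hv.linearCombinationEquiv (Finsupp.single i 1) =
        ⟨v i, Submodule.subset_span ⟨i, rfl⟩⟩ := by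
      apply Subtype.ext
      simp [LinearIndependent.linearCombinationEquiv_apply_coe]
    have h2 : hw.linearCombinationEquiv (Finsupp.single i 1) =
        ⟨w i, Submodule.subset_span ⟨i, rfl⟩⟩ := by
      apply Subtype.ext
      simp [LinearIndependent.linearCombinationEquiv_apply_coe]
    change ((hw.linearCombinationEquiv (hv.linearCombinationEquiv.symm
      ⟨v i, Submodule.subset_span ⟨i, rfl⟩⟩)) : V) = w i
    rw [← h1, LinearEquiv.symm_apply_apply, h2]
  let A : V ≃ₗ[K] V := (Submodule.prodEquivOfIsCompl _ C₁ hC₁).symm.trans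
    ((eU.prodCongr eC).trans (Submodule.prodEquivOfIsCompl _ C₂ hC₂))
  refine ⟨A, fun i => ?_⟩
  have h0 : (Submodule.prodEquivOfIsCompl _ C₁ hC₁).symm (v i) =
      (⟨v i, Submodule.subset_span ⟨i, rfl⟩⟩, 0) :=
    Submodule.prodEquivOfIsCompl_symm_apply_left _ _ hC₁
      (⟨v i, Submodule.subset_span ⟨i, rfl⟩⟩)
  change Submodule.prodEquivOfIsCompl _ C₂ hC₂ ((eU.prodCongr eC)
    ((Submodule.prodEquivOfIsCompl _ C₁ hC₁).symm (v i))) = w i
  rw [h0]
  simp [Submodule.coe_prodEquivOfIsCompl', heU]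

/-- The midpoint argument. -/
theorem midpoint_affine {p : ℕ} [hp : Fact p.Prime] (h2 : p ≠ 2) {V : Type*} [AddCommGroup V]
    [Module (ZMod p) V] (σ : Equiv.Perm V)
    (h : ∀ x y : V, ∃ (A : V →ₗ[ZMod p] V) (b : V), σ x = A x + b ∧ σ y = A y + b ∧
      σ ((2 : ZMod p)⁻¹ • (x + y)) = A ((2 : ZMod p)⁻¹ • (x + y)) + b) :
    ∃ (A : V ≃ₗ[ZMod p] V) (b : V), ∀ x, σ x = A x + b := by
  have h20 : (2 : ZMod p) ≠ 0 := by
    intro h0
    have : ((2 : ℕ) : ZMod p) = 0 := by exact_mod_cast h0
    rw [ZMod.natCast_eq_zero_iff] at this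
    exact h2 ((Nat.prime_dvd_prime_iff_eq hp.out Nat.prime_two).mp this)
  have key : ∀ x y : V, (2 : ZMod p) • σ ((2 : ZMod p)⁻¹ • (x + y)) = σ x + σ y := by
    intro x y
    obtain ⟨A, b, h1, h3, h4⟩ := h x y
    rw [h1, h3, h4, smul_add, map_smul, smul_smul, mul_inv_cancel₀ h20, one_smul, map_add, two_smul]
    abel
  let τ : V → V := fun x => σ x - σ 0
  have hτ0 : τ 0 = 0 := sub_self _
  have key' : ∀ x y : V, (2 : ZMod p) • τ ((2 : ZMod p)⁻¹ • (x + y)) = τ x + τ y := by
    intro x y
    simp only [τ, smul_sub, key x y, two_smul]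
    abel
  have hadd : ∀ x y : V, τ (x + y) = τ x + τ y := by
    intro x y
    rw [← key' x y]
    have := key' (x + y) 0
    rw [hτ0, add_zero, add_zero] at this
    exact this.symm
  let A₀ : V →+ V := AddMonoidHom.mk' τ hadd
  let A₁ : V →ₗ[ZMod p] V := A₀.toZModLinearMap p
  have hA₁ : ∀ x, A₁ x = σ x - σ 0 := fun x => rfl
  have hbij : Function.Bijective A₁ := by
    constructor
    · intro x y hxy
      rw [hA₁, hA₁] at hxy
      exact σ.injective (sub_left_inj.mp hxy)
    · intro y
      refine ⟨σ.symm (y + σ 0), ?_⟩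
      rw [hA₁, Equiv.apply_symm_apply]
      abel
  refine ⟨LinearEquiv.ofBijective A₁ hbij, σ 0, fun x => ?_⟩
  rw [LinearEquiv.ofBijective_apply, hA₁]
  abel

end Cfsg.Agent.Lib.Affine
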